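import Cfsg.Agent.Lib.Helper35.J1POrd.U0.Check
import Cfsg.Agent.Lib.Helper35.J1POrd.U1.Check
import Cfsg.Agent.Lib.Helper35.J1POrd.Y0.Check
import Cfsg.Agent.Lib.Helper35.J1POrd.X0.Fin
import Cfsg.Agent.Lib.Helper35.Simple4

namespace Cfsg.Agent.Lib.Helper35.J1POrd

open Cfsg.Agent.Lib.Helper35 Cfsg.Spor

set_option maxRecDepth 100000

noncomputable def I : PresIface J1P := coxIface J1P.edges J1P.extra PresJ1P.cc PresJ1P.extraL PresJ1P.R PresJ1P.allGens PresJ1P.hall PresJ1P.hOK PresJ1P.hextra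
theorem up2 : Finite (wsub I.val ([] : List (List Nat))) ∧ Nat.card (wsub I.val ([] : List (List Nat))) ≤ 1 := upper_nil I.val

theorem up1 : Finite (wsub I.val [[0, 1], [2, 0]]) ∧ Nat.card (wsub I.val [[0, 1], [2, 0]]) ≤ 7 :=
  upper_cons 7 1 7 up2 (fun hf => card_upper_step I.val I.inv I.hinv [[0, 1], [2, 0]] ([] : List (List Nat)) U1.invL U1.R U1.S 7
    (by decide +kernel) (by decide +kernel)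
    (fun b hb => I.hR _ ((by decide +kernel : ∀ b ∈ U1.R, expand [[0, 1], [2, 0]] b ∈ PresJ1P.R) b hb))
    (by decide +kernel) U1.certData hf) (by decide +kernel)
theorem up0 : Finite (wsub I.val [[0], [1], [2]]) ∧ Nat.card (wsub I.val [[0], [1], [2]]) ≤ 175560 :=
  upper_cons 25080 7 175560 up1 (fun hf => card_upper_step I.val I.inv I.hinv [[0], [1], [2]] [[0, 1], [2, 0]] PresJ1P.cc.invL PresJ1P.R U0.S 25080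
    (by decide +kernel) (by decide +kernel)
    (fun b hb => I.hR _ ((by decide +kernel : ∀ b ∈ PresJ1P.R, expand [[0], [1], [2]] b ∈ PresJ1P.R) b hb))
    (by decide +kernel) U0.certData hf) (by decide +kernel)
noncomputable abbrev pv2 := J1P1045.permData.pv
theorem lo2 : 1 ≤ Nat.card (wsub pv2 ([] : List (List Nat))) := lower_nil pv2
theorem lo1 : 168 ≤ Nat.card (wsub pv2 [[2, 0], [0, 1], [1, 0, 1, 0, 2, 0, 1, 0, 1, 0, 2, 0, 1, 0, 2, 0, 2, 0, 1, 0, 2, 0, 2], [1, 0, 1, 0, 2, 0, 2, 0, 1, 0, 2, 0, 1, 0, 1, 0, 2, 0, 2, 0, 1, 0, 2, 0, 1, 0, 2, 0, 1, 0, 2, 0, 1, 0, 1, 0, 2, 0, 2], [1, 0, 1, 0, 2, 0, 2, 0, 1, 0, 2, 0, 1, 0, 2, 0, 1, 0, 2, 0, 1, 0, 1, 0, 2, 0, 2, 0, 1, 0, 2, 0, 1, 0, 1, 0, 2, 0, 2]]) :=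
  lower_cons 168 1 168 lo2 (card_lower_step pv2 [[2, 0], [0, 1], [1, 0, 1, 0, 2, 0, 1, 0, 1, 0, 2, 0, 1, 0, 2, 0, 2, 0, 1, 0, 2, 0, 2], [1, 0, 1, 0, 2, 0, 2, 0, 1, 0, 2, 0, 1, 0, 1, 0, 2, 0, 2, 0, 1, 0, 2, 0, 1, 0, 2, 0, 1, 0, 2, 0, 1, 0, 1, 0, 2, 0, 2], [1, 0, 1, 0, 2, 0, 2, 0, 1, 0, 2, 0, 1, 0, 2, 0, 1, 0, 2, 0, 1, 0, 1, 0, 2, 0, 2, 0, 1, 0, 2, 0, 1, 0, 1, 0, 2, 0, 2]] ([] : List (List Nat)) (by decide +kernel) 1044 (MonoidHom.id _) J1P1045.pt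
    (fun s hs i => walk_of_hom pv2 J1P1045.permData (MonoidHom.id _) (fun _ => rfl) s ((by decide +kernel : ∀ s ∈ ([[2, 0], [0, 1], [1, 0, 1, 0, 2, 0, 1, 0, 1, 0, 2, 0, 1, 0, 2, 0, 2, 0, 1, 0, 2, 0, 2], [1, 0, 1, 0, 2, 0, 2, 0, 1, 0, 2, 0, 1, 0, 1, 0, 2, 0, 2, 0, 1, 0, 2, 0, 1, 0, 2, 0, 1, 0, 2, 0, 1, 0, 1, 0, 2, 0, 2], [1, 0, 1, 0, 2, 0, 2, 0, 1, 0, 2, 0, 1, 0, 2, 0, 1, 0, 2, 0, 1, 0, 1, 0, 2, 0, 2, 0, 1, 0, 2, 0, 1, 0, 1, 0, 2, 0, 2]] : List (List Nat)), ∀ c ∈ s, c < PresJ1P.cc.C) s hs) i)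
    1 168 (by decide +kernel) X0.reach1 X0.fix1) (by decide +kernel)
theorem lo0 : 175560 ≤ Nat.card (wsub pv2 [[0], [1], [2]]) := by
  have h := lower_cons 1045 168 175560 lo1 (card_lower_step pv2 [[0], [1], [2], [2, 0], [0, 1], [1, 0, 1, 0, 2, 0, 1, 0, 1, 0, 2, 0, 1, 0, 2, 0, 2, 0, 1, 0, 2, 0, 2], [1, 0, 1, 0, 2, 0, 2, 0, 1, 0, 2, 0, 1, 0, 1, 0, 2, 0, 2, 0, 1, 0, 2, 0, 1, 0, 2, 0, 1, 0, 2, 0, 1, 0, 1, 0, 2, 0, 2], [1, 0, 1, 0, 2, 0, 2, 0, 1, 0, 2, 0, 1, 0, 2, 0, 1, 0, 2, 0, 1, 0, 1, 0, 2, 0, 2, 0, 1, 0, 2, 0, 1, 0, 1, 0, 2, 0, 2]] [[2, 0], [0, 1], [1, 0, 1, 0, 2, 0, 1, 0, 1, 0, 2, 0, 1, 0, 2, 0, 2, 0, 1, 0, 2, 0, 2], [1, 0, 1, 0, 2, 0, 2, 0, 1, 0, 2, 0, 1, 0, 1, 0, 2, 0, 2, 0, 1, 0, 2, 0, 1, 0, 2, 0, 1, 0, 2, 0, 1, 0, 1, 0, 2, 0, 2], [1, 0, 1, 0, 2, 0, 2, 0, 1, 0, 2,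 0, 1, 0, 2, 0, 1, 0, 2, 0, 1, 0, 1, 0, 2, 0, 2, 0, 1, 0, 2, 0, 1, 0, 1, 0, 2, 0, 2]] (by decide +kernel) 1044 (MonoidHom.id _) J1P1045.pt
    (fun s hs i => walk_of_hom pv2 J1P1045.permData (MonoidHom.id _) (fun _ => rfl) s ((by decide +kernel : ∀ s ∈ ([[0], [1], [2], [2, 0], [0, 1], [1, 0, 1, 0, 2, 0, 1, 0, 1, 0, 2, 0, 1, 0, 2, 0, 2, 0, 1, 0, 2, 0, 2], [1, 0, 1, 0, 2, 0, 2, 0, 1, 0, 2, 0, 1, 0, 1, 0, 2, 0, 2, 0, 1, 0, 2, 0, 1, 0, 2, 0, 1, 0, 2, 0, 1, 0, 1, 0, 2, 0, 2], [1, 0, 1, 0, 2, 0, 2, 0, 1, 0, 2, 0, 1, 0, 2, 0, 1, 0, 2, 0, 1, 0, 1, 0, 2, 0, 2, 0, 1, 0, 2, 0, 1, 0, 1, 0, 2, 0, 2]] : List (List Nat)), ∀ c ∈ s, c < PresJ1P.cc.C) s hs) i)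
    0 1045 (by decide +kernel) X0.reach0 X0.fix0) (by decide +kernel)
  have e : wsub pv2 [[0], [1], [2], [2, 0], [0, 1], [1, 0, 1, 0, 2, 0, 1, 0, 1, 0, 2, 0, 1, 0, 2, 0, 2, 0, 1, 0, 2, 0, 2], [1, 0, 1, 0, 2, 0, 2, 0, 1, 0, 2, 0, 1, 0, 1, 0, 2, 0, 2, 0, 1, 0, 2, 0, 1, 0, 2, 0, 1, 0, 2, 0, 1, 0, 1, 0, 2, 0, 2], [1, 0, 1, 0, 2, 0, 2, 0, 1, 0, 2, 0, 1, 0, 2, 0, 1, 0, 2, 0, 1, 0, 1, 0, 2, 0, 2, 0, 1, 0, 2, 0, 1, 0, 1, 0, 2, 0, 2]] = wsub pv2 [[0], [1], [2]] := wsub_append_of_letters pv2 [[0], [1], [2]] [[2, 0], [0, 1], [1, 0, 1, 0, 2, 0, 1, 0, 1, 0, 2, 0, 1, 0, 2, 0, 2, 0, 1, 0, 2, 0, 2], [1, 0, 1, 0, 2, 0, 2, 0, 1, 0, 2, 0, 1, 0, 1, 0, 2, 0, 2, 0, 1, 0, 2, 0, 1, 0, 2, 0, 1, 0, 2, 0, 1, 0, 1, 0, 2, 0, 2], [1, 0, 1, 0, 2, 0, 2, 0, 1, 0, 2, 0, 1, 0, 2, 0, 1, 0, 2, 0, 1, 0,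 1, 0, 2, 0, 2, 0, 1, 0, 2, 0, 1, 0, 1, 0, 2, 0, 2]] (by decide +kernel)
  rwa [e] at h
def cnt0 : Nat → Nat := fun k => ([1, 168, 168, 168, 168, 56, 8, 56, 168, 28, 56] : List Nat).getD k 0
noncomputable def prim0 : PrimData J1P1045.permData 175560 where
  O := J1P1045.orbData
  r := 11
  cnt := cnt0
  hcnt := by
    intro k hk
    interval_cases k
    exacts [J1P1045.ocnt0, J1P1045.ocnt1, J1P1045.ocnt2, J1P1045.ocnt3, J1P1045.ocnt4, J1P1045.ocnt5, J1P1045.ocnt6, J1P1045.ocnt7, J1P1045.ocnt8, J1P1045.ocnt9, J1P1045.ocnt10]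
  hsum := by decide +kernel
  hnum := by decide +kernel
  p := 19
  hp := by norm_num
  yw := Y0.yw
  hyC := by decide +kernel
  hnd := by decide +kernel
  col := Y0.certData
theorem main : IsSimpleGroup J1P ∧ Nat.card J1P = 175560 :=
  simple_of_one I J1P1045.permData 175560 (by decide +kernel) up0 lo0 prim0 X0.yfix0

end Cfsg.Agent.Lib.Helper35.J1POrd
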